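import Cfsg.Agent.Lib.Coprime.ClassMod.Basic
import Cfsg.Agent.Lib.Coprime.SemidirectClasses
import Cfsg.Agent.Lib.Char.Berger.Basics

/-!
# Class numbers of semidirect products of a module with a linear group
-/

set_option autoImplicit false
set_option linter.style.haveILetI false
set_option linter.unusedSectionVars false

namespace CfsgLib.Coprime.KVSolvable

open Module CfsgLib.Char CfsgLib.Char.Berger CfsgLib.Coprime.ClassMod

universe v

/-- the class number along an extension -/
theorem card_classes_le_of_exact {A X Y : Type*} [Group A] [Group X] [Group Y] [Finite A] [Finite X]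
    (g : A →* X) (f : X →* Y) (hf : Function.Surjective f) (hex : g.range = f.ker) :
    Nat.card (ConjClasses X) ≤ Nat.card (ConjClasses A) * Nat.card (ConjClasses Y) := by
  refine (Cfsg.Agent.S4201.result f.ker).trans (Nat.mul_le_mul ?_ ?_)
  · exact card_conjClasses_le_of_surjective ((MulEquiv.subgroupCongr hex).toMonoidHom.comp g.rangeRestrict)
      ((MulEquiv.subgroupCongr hex).surjective.comp g.rangeRestrict_surjective)
  · haveI : Finite Y := Finite.of_surjective f hf
    exact card_conjClasses_le_of_surjective (QuotientGroup.quotientKerEquivOfSurjective f hf).symm.toMonoidHom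
      (QuotientGroup.quotientKerEquivOfSurjective f hf).symm.surjective

variable {p : ℕ} [Fact p.Prime] {V : Type v} [AddCommGroup V] [Module (ZMod p) V] [Finite V]

/-- linear maps as automorphisms of the multiplicative copy -/
def mulAutHom : (V ≃ₗ[ZMod p] V) →* MulAut (Multiplicative V) where
  toFun g := AddEquiv.toMultiplicative g.toAddEquiv
  map_one' := MulEquiv.ext fun _ => rfl
  map_mul' _ _ := MulEquiv.ext fun _ => rfl

/-- the action of a linear group on the module -/
def actHom (G : Subgroup (V ≃ₗ[ZMod p] V)) : G →* MulAut (Multiplicative V) := mulAutHom.comp G.subtype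

theorem actHom_apply (G : Subgroup (V ≃ₗ[ZMod p] V)) (g : G) (v : V) :
    actHom G g (Multiplicative.ofAdd v) = Multiplicative.ofAdd ((g : V ≃ₗ[ZMod p] V) v) := rfl

/-- the affine group -/
abbrev Aff (G : Subgroup (V ≃ₗ[ZMod p] V)) : Type v := Multiplicative V ⋊[actHom G] G

instance (G : Subgroup (V ≃ₗ[ZMod p] V)) : Finite (Aff G) :=
  Finite.of_equiv _ SemidirectProduct.equivProd.symm

/-- the class number of the affine group -/
noncomputable def kAff (G : Subgroup (V ≃ₗ[ZMod p] V)) : ℕ := Nat.card (ConjClasses (Aff G))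

/-- a normal subgroup of the linear group -/
theorem kAff_le_normal (G : Subgroup (V ≃ₗ[ZMod p] V)) (N : Subgroup G) [N.Normal] :
    kAff G ≤ kAff (N.map G.subtype) * Nat.card (ConjClasses (G ⧸ N)) := by
  let i : (N.map G.subtype : Subgroup (V ≃ₗ[ZMod p] V)) →* G := Subgroup.inclusion (Subgroup.map_subtype_le N)
  let g : Aff (N.map G.subtype) →* Aff G := SemidirectProduct.map (MonoidHom.id _) i fun _ =>
    MonoidHom.ext fun _ => rfl
  refine card_classes_le_of_exact g ((QuotientGroup.mk' N).comp SemidirectProduct.rightHom)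
    ((QuotientGroup.mk'_surjective N).comp SemidirectProduct.rightHom_surjective) ?_
  ext x
  rw [MonoidHom.mem_ker, MonoidHom.mem_range]
  show _ ↔ (QuotientGroup.mk' N) x.right = 1
  rw [QuotientGroup.mk'_apply, QuotientGroup.eq_one_iff]
  constructor
  · rintro ⟨⟨v, h⟩, rfl⟩
    obtain ⟨n, hn, he⟩ := Subgroup.mem_map.1 h.2
    show i h ∈ N
    have : i h = n := Subtype.ext he.symm
    rwa [this]
  · intro hx
    exact ⟨⟨x.left, ⟨(x.right : V ≃ₗ[ZMod p] V), x.right, hx, rfl⟩⟩, SemidirectProduct.ext rfl (Subtype.ext rfl)⟩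

/-- splitting along two complementary invariant subspaces -/
theorem kAff_le_split {G : Subgroup (V ≃ₗ[ZMod p] V)} {W W' : Submodule (ZMod p) V} (hW : Inv G W) (hW' : Inv G W')
    (hc : IsCompl W W') :
    kAff G ≤ kAff ((resHom hW).comp (resHom hW').ker.subtype).range * kAff (resHom hW').range := by
  set K := (resHom hW').ker with hK
  set r := (resHom hW).comp K.subtype with hr
  have hrinj : Function.Injective r := (injective_iff_map_eq_one r).2 fun k hk => Subtype.ext (Subtype.ext
    (LinearEquiv.ext fun v => by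
      obtain ⟨a, ha, b, hb, rfl⟩ := Submodule.mem_sup.1 (hc.sup_eq_top.ge (Submodule.mem_top : v ∈ ⊤))
      show ((k : G) : V ≃ₗ[ZMod p] V) (a + b) = a + b
      rw [map_add, resHom_eq_one hW (g := (k : G)) hk ha, resHom_eq_one hW' (MonoidHom.mem_ker.1 k.2) hb]))
  let e : r.range →* G := K.subtype.comp (MonoidHom.ofInjective hrinj).symm.toMonoidHom
  have he : ∀ (y : r.range) (w : W), ((e y : G) : V ≃ₗ[ZMod p] V) w = ((y : W ≃ₗ[ZMod p] W) w : V) := fun y w => by
    obtain ⟨k, rfl⟩ := (MonoidHom.ofInjective hrinj).surjective y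
    show (((MonoidHom.ofInjective hrinj).symm (MonoidHom.ofInjective hrinj k) : K) : G).1 w = _
    rw [MulEquiv.symm_apply_apply]
    rfl
  let g : Aff r.range →* Aff G := SemidirectProduct.map (AddMonoidHom.toMultiplicative W.subtype.toAddMonoidHom) e
    fun y => MonoidHom.ext fun w => congrArg Multiplicative.ofAdd (he y w.toAdd).symm
  let π : V →ₗ[ZMod p] W' := W'.projectionOnto W hc.symm
  have hπe : ∀ (x : G) v, π ((x : V ≃ₗ[ZMod p] V) v) = resHom hW' x (π v) := fun x v => by
    obtain ⟨a, ha, b, hb, rfl⟩ := Submodule.mem_sup.1 (hc.sup_eq_top.ge (Submodule.mem_top : v ∈ ⊤))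
    rw [map_add, map_add, map_add, map_add, Submodule.projectionOnto_apply_right hc.symm ⟨_, hW _ x.2 a ha⟩,
      Submodule.projectionOnto_apply_right hc.symm ⟨a, ha⟩,
      Submodule.projectionOnto_apply_left hc.symm ⟨_, hW' _ x.2 b hb⟩,
      Submodule.projectionOnto_apply_left hc.symm ⟨b, hb⟩, map_zero]
    rfl
  let f : Aff G →* Aff (resHom hW').range := SemidirectProduct.map (AddMonoidHom.toMultiplicative π.toAddMonoidHom)
    (resHom hW').rangeRestrict fun x => MonoidHom.ext fun v => congrArg Multiplicative.ofAdd (hπe x v.toAdd)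
  refine card_classes_le_of_exact g f ?_ ?_
  · rintro ⟨w, y⟩
    obtain ⟨x, rfl⟩ := (resHom hW').rangeRestrict_surjective y
    exact ⟨⟨Multiplicative.ofAdd (w.toAdd : V), x⟩, SemidirectProduct.ext
      (congrArg Multiplicative.ofAdd (Submodule.projectionOnto_apply_left hc.symm w.toAdd)) rfl⟩
  · ext x
    rw [MonoidHom.mem_ker, MonoidHom.mem_range]
    constructor
    · rintro ⟨⟨w, y⟩, rfl⟩
      refine SemidirectProduct.ext (congrArg Multiplicative.ofAdd
        (Submodule.projectionOnto_apply_right hc.symm w.toAdd)) (Subtype.ext ?_)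
      exact MonoidHom.mem_ker.1 ((MonoidHom.ofInjective hrinj).symm y).2
    · intro h
      have h1 : π x.left.toAdd = 0 := congrArg Multiplicative.toAdd (congrArg SemidirectProduct.left h)
      have h2 : x.right ∈ K := MonoidHom.mem_ker.2 (congrArg Subtype.val (congrArg SemidirectProduct.right h))
      refine ⟨⟨Multiplicative.ofAdd ⟨x.left.toAdd, (Submodule.projectionOnto_apply_eq_zero_iff hc.symm).1 h1⟩,
        MonoidHom.ofInjective hrinj ⟨x.right, h2⟩⟩, SemidirectProduct.ext rfl ?_⟩
      show K.subtype ((MonoidHom.ofInjective hrinj).symm (MonoidHom.ofInjective hrinj ⟨x.right, h2⟩)) = x.right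
      rw [MulEquiv.symm_apply_apply]
      rfl

/-- counting commuting pairs in the coprime case -/
theorem kAff_mul_card_le (F : Subgroup (V ≃ₗ[ZMod p] V)) (hcop : (Nat.card F).Coprime (Nat.card V)) (c : ℕ)
    (hc : ∀ v : V, v ≠ 0 → Nat.card {f : F // (f : V ≃ₗ[ZMod p] V) v = v} ≤ c) :
    kAff F * Nat.card F ≤ Nat.card F ^ 2 + (Nat.card V - 1) * c ^ 2 := by
  classical
  letI : MulDistribMulAction F (Multiplicative V) := MulDistribMulAction.compHom _ (actHom F)
  have hsmul : ∀ (f : F) (u : Multiplicative V), f • u = actHom F f u := fun _ _ => rfl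
  let Q := {z : F × F // Commute z.1 z.2}
  let Sol : Q → Type v := fun z =>
    {u : Multiplicative V × Multiplicative V // u.1 * (z.1.1 • u.2) = u.2 * (z.1.2 • u.1)}
  let Φ : {z : Aff F × Aff F // Commute z.1 z.2} ≃ Σ z : Q, Sol z :=
    { toFun := fun z => ⟨⟨(z.1.1.right, z.1.2.right), congrArg SemidirectProduct.right z.2.eq⟩,
        ⟨(z.1.1.left, z.1.2.left), congrArg SemidirectProduct.left z.2.eq⟩⟩
      invFun := fun z => ⟨(⟨z.2.1.1, z.1.1.1⟩, ⟨z.2.1.2, z.1.1.2⟩), SemidirectProduct.ext z.2.2 z.1.2.eq⟩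
      left_inv := fun _ => rfl
      right_inv := fun _ => rfl }
  have hcopM : (Nat.card F).Coprime (Nat.card (Multiplicative V)) := by
    rwa [Nat.card_congr Multiplicative.toAdd]
  haveI := Fintype.ofFinite Q
  haveI := Fintype.ofFinite V
  have hP : Nat.card {z : Aff F × Aff F // Commute z.1 z.2} =
      Nat.card V * ∑ z : Q, Nat.card {v : Multiplicative V // z.1.1 • v = v ∧ z.1.2 • v = v} := by
    rw [Nat.card_congr Φ, Nat.card_sigma, Finset.mul_sum]
    refine Finset.sum_congr rfl fun z _ => ?_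
    rw [SemidirectClasses.card_pairs hcopM z.2, Nat.card_congr (Multiplicative.toAdd (α := V))]
  let Fx : V → Type v := fun v => {f : F // (f : V ≃ₗ[ZMod p] V) v = v}
  let Ψ : (Σ z : Q, {v : Multiplicative V // z.1.1 • v = v ∧ z.1.2 • v = v}) → Σ v : V, Fx v × Fx v := fun z =>
    ⟨z.2.1.toAdd, ⟨z.1.1.1, congrArg Multiplicative.toAdd z.2.2.1⟩, ⟨z.1.1.2, congrArg Multiplicative.toAdd z.2.2.2⟩⟩
  have hΨ : Function.Injective Ψ := by
    rintro ⟨⟨⟨a, b⟩, hab⟩, ⟨u, hu⟩⟩ ⟨⟨⟨a', b'⟩, hab'⟩, ⟨u', hu'⟩⟩ h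
    have e1 : u = u' := congrArg (fun t : Σ v : V, Fx v × Fx v => Multiplicative.ofAdd t.1) h
    subst e1
    have e2 := eq_of_heq (Sigma.mk.inj h).2
    have e3 : a = a' := congrArg (fun t : Fx u.toAdd × Fx u.toAdd => t.1.1) e2
    have e4 : b = b' := congrArg (fun t : Fx u.toAdd × Fx u.toAdd => t.2.1) e2
    subst e3; subst e4
    rfl
  have hfix : ∑ z : Q, Nat.card {v : Multiplicative V // z.1.1 • v = v ∧ z.1.2 • v = v} ≤
      Nat.card F ^ 2 + (Nat.card V - 1) * c ^ 2 := by
    rw [← Nat.card_sigma]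
    refine (Nat.card_le_card_of_injective Ψ hΨ).trans ?_
    rw [Nat.card_sigma, ← Finset.add_sum_erase Finset.univ _ (Finset.mem_univ (0 : V))]
    refine Nat.add_le_add ?_ ?_
    · rw [Nat.card_prod, sq]
      exact Nat.mul_le_mul (Finite.card_subtype_le _) (Finite.card_subtype_le _)
    · refine (Finset.sum_le_card_nsmul _ _ (c ^ 2) fun v hv => ?_).trans (le_of_eq ?_)
      · rw [Nat.card_prod, sq]
        exact Nat.mul_le_mul (hc v (Finset.mem_erase.1 hv).1) (hc v (Finset.mem_erase.1 hv).1)
      · rw [smul_eq_mul, Finset.card_erase_of_mem (Finset.mem_univ _), Finset.card_univ, Nat.card_eq_fintype_card]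
  rw [card_comm_eq_card_conjClasses_mul_card, Nat.card_congr SemidirectProduct.equivProd, Nat.card_prod,
    Nat.card_congr (Multiplicative.toAdd (α := V))] at hP
  have hV : 0 < Nat.card V := Nat.card_pos
  refine Nat.le_of_mul_le_mul_left ?_ hV
  calc Nat.card V * (kAff F * Nat.card F) = Nat.card (ConjClasses (Aff F)) * (Nat.card V * Nat.card F) := by
        rw [kAff]; ring
    _ = _ := hP
    _ ≤ _ := Nat.mul_le_mul_left _ hfix

end CfsgLib.Coprime.KVSolvable
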