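import Cfsg.Agent.Lib.Coprime.KVSolvable.Induction
import Cfsg.Agent.Lib.Coprime.Solvable
import Cfsg.Agent.Lib.Coprime.FrattiniExtra
import Cfsg.Agent.Lib.Coprime.PGroupFrattini

/-!
# The class number of a solvable group without normal `p'`-subgroups
-/

set_option autoImplicit false
set_option linter.style.haveILetI false
set_option linter.unusedSectionVars false

namespace CfsgLib.Coprime.KVSolvable

open Module CfsgLib.Char CfsgLib.Char.Berger CfsgLib.Coprime.ClassMod
open scoped commutatorElement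

universe u

theorem frattini_quotient_frattini {X : Type u} [Group X] [Finite X] :
    frattini (X ⧸ frattini X) = ⊥ := by
  set π := QuotientGroup.mk' (frattini X) with hπ
  refine (Subgroup.eq_bot_iff_forall _).2 fun y hy => ?_
  obtain ⟨x, rfl⟩ := QuotientGroup.mk'_surjective (frattini X) y
  refine (QuotientGroup.eq_one_iff x).2 ?_
  have : ∀ M : Subgroup X, IsCoatom M → x ∈ M := by
    intro M hM
    have hle : frattini X ≤ M := frattini_le_coatom hM
    have hcm : (M.map π).comap π = M := by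
      rw [Subgroup.comap_map_eq, hπ, QuotientGroup.ker_mk', sup_eq_left]
      exact hle
    have hc : IsCoatom (M.map π) := by
      refine ⟨fun h => hM.1 (by rw [← hcm, h, Subgroup.comap_top]), fun K hK => ?_⟩
      have h1 : M < K.comap π := by
        rw [← hcm]
        exact (Subgroup.comap_lt_comap_of_surjective (QuotientGroup.mk'_surjective _)).2 hK
      rw [← Subgroup.map_comap_eq_self_of_surjective (QuotientGroup.mk'_surjective _) K]
      show (K.comap π).map π = ⊤
      rw [hM.2 _ h1, Subgroup.map_top_of_surjective _ (QuotientGroup.mk'_surjective _)]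
    have h2 : π x ∈ M.map π := frattini_le_coatom hc hy
    rw [← hcm]
    exact h2
  simp only [frattini, Order.radical, Subgroup.mem_iInf]
  exact fun M hM => this M hM

variable {p : ℕ} [Fact p.Prime]

/-- a solvable group over a self-centralizing normal elementary abelian subgroup, all complemented -/
theorem card_classes_le_of_module (hp5 : 5 ≤ p) {Y : Type u} [Group Y] [Finite Y] [Group.IsSolvable Y]
    {E : Type u} [CommGroup E] [Finite E] [Module (ZMod p) (Additive E)] (ι : E →* Y) (hι : Function.Injective ι)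
    (hUn : ι.range.Normal) (hcent : Subgroup.centralizer (ι.range : Set Y) ≤ ι.range)
    (hcompl : ∀ W : Subgroup Y, W.Normal → W ≤ ι.range → ∃ L : Subgroup Y, W.IsComplement' L) :
    ∃ n, Nat.card E = p ^ n ∧ Nat.card (ConjClasses Y) ≤ 3 ^ (n - 1) * p ^ n := by
  classical
  haveI := hUn
  obtain ⟨H, hH⟩ := hcompl ι.range hUn le_rfl
  haveI : Finite (Additive E) := Finite.of_equiv E Additive.ofMul
  let e : E ≃* ι.range := MonoidHom.ofInjective hι
  let act : Y →* MulAut E := MonoidHom.mk' (fun y => (e.trans (MulAut.conjNormal y)).trans e.symm) fun y z =>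
    MulEquiv.ext fun a => e.injective (Subtype.ext (by simp [MulAut.mul_apply, mul_assoc]))
  have hact : ∀ y a, ι (act y a) = y * ι a * y⁻¹ := fun y a => by
    show ((e (e.symm (MulAut.conjNormal y (e a))) : ι.range) : Y) = _
    rw [MulEquiv.apply_symm_apply, MulAut.conjNormal_apply]
    rfl
  let ρ : H →* (Additive E ≃ₗ[ZMod p] Additive E) := (toLin p E).comp (act.comp H.subtype)
  have hρ : ∀ (h : H) (a : Additive E),
      ι (Additive.toMul (ρ h a)) = (h : Y) * ι (Additive.toMul a) * (h : Y)⁻¹ := fun h a => hact h _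
  have hinj : Function.Injective ρ := (injective_iff_map_eq_one ρ).2 fun h hh => by
    have hc : (h : Y) ∈ Subgroup.centralizer (ι.range : Set Y) := by
      refine Subgroup.mem_centralizer_iff.2 ?_
      rintro _ ⟨a, rfl⟩
      have h1 := hρ h (Additive.ofMul a)
      rw [hh] at h1
      rw [eq_mul_inv_iff_mul_eq] at h1
      exact h1
    exact Subtype.ext (Subgroup.disjoint_def.1 hH.disjoint (hcent hc) h.2)
  haveI : Group.IsSolvable ρ.range := Group.isSolvable_of_surjective ρ.rangeRestrict_surjective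
  have hdec : ∀ y : Y, ∃ a : E, ∃ h ∈ H, y = ι a * h := fun y => by
    obtain ⟨⟨⟨_, ⟨a, rfl⟩⟩, ⟨h, hh⟩⟩, he⟩ := hH.2 y
    exact ⟨a, h, hh, he.symm⟩
  have hcomm : ∀ a b : E, ι a * ι b = ι b * ι a := fun a b => by rw [← map_mul, ← map_mul, mul_comm]
  have hss : SS ρ.range := by
    intro W hW
    let WE : Subgroup E :=
      { carrier := {x | Additive.ofMul x ∈ W}
        one_mem' := W.zero_mem
        mul_mem' := fun {a b} ha hb => W.add_mem ha hb
        inv_mem' := fun {a} ha => W.neg_mem ha }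
    haveI hW₀n : (WE.map ι).Normal := ⟨by
      rintro _ ⟨x, hx, rfl⟩ y
      obtain ⟨a, h, hh, rfl⟩ := hdec y
      refine ⟨Additive.toMul (ρ ⟨h, hh⟩ (Additive.ofMul x)), hW _ ⟨⟨h, hh⟩, rfl⟩ _ hx, ?_⟩
      rw [hρ]
      show h * ι x * h⁻¹ = ι a * h * ι x * (ι a * h)⁻¹
      rw [show ι a * h * ι x * (ι a * h)⁻¹ = ι a * (h * ι x * h⁻¹) * (ι a)⁻¹ by group, ← hact, hcomm,
        mul_inv_cancel_right]⟩
    obtain ⟨L, hL⟩ := hcompl (WE.map ι) hW₀n (Subgroup.map_le_range ι WE)
    let W₁ : Submodule (ZMod p) (Additive E) :=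
      AddSubgroup.toZModSubmodule p (Subgroup.toAddSubgroup (L.comap ι))
    refine ⟨W₁, ?_, ?_, ?_⟩
    · rintro _ ⟨h, rfl⟩ w hw
      obtain ⟨⟨⟨_, ⟨w₀, _, rfl⟩⟩, ⟨l, hl⟩⟩, he⟩ := hL.2 (h : Y)
      have he' : (h : Y) = ι w₀ * l := Eq.symm he
      show ι (Additive.toMul (ρ h w)) ∈ L
      rw [hρ, he', show ι w₀ * l * ι (Additive.toMul w) * (ι w₀ * l)⁻¹ =
        ι w₀ * (l * ι (Additive.toMul w) * l⁻¹) * (ι w₀)⁻¹ by group, ← hact, hcomm, mul_inv_cancel_right, hact]
      exact mul_mem (mul_mem hl hw) (inv_mem hl)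
    · refine Submodule.disjoint_def.2 fun w hw hw' => ?_
      have h1 : ι (Additive.toMul w) = 1 :=
        Subgroup.disjoint_def.1 hL.disjoint ⟨Additive.toMul w, hw, rfl⟩ hw'
      exact congrArg Additive.ofMul (hι (h1.trans (map_one ι).symm) : Additive.toMul w = 1)
    · refine codisjoint_iff.2 (eq_top_iff.2 fun w _ => ?_)
      obtain ⟨⟨⟨_, ⟨a, haW, rfl⟩⟩, ⟨l, hl⟩⟩, he⟩ := hL.2 (ι (Additive.toMul w))
      have he' : ι a * l = ι (Additive.toMul w) := he
      have hla : ι (a⁻¹ * Additive.toMul w) ∈ L := by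
        rw [map_mul, map_inv, ← he', inv_mul_cancel_left]
        exact hl
      refine Submodule.mem_sup.2 ⟨Additive.ofMul a, haW, Additive.ofMul (a⁻¹ * Additive.toMul w), hla, ?_⟩
      exact congrArg Additive.ofMul (mul_inv_cancel_left a (Additive.toMul w))
  -- the map from the affine group
  let fn : Multiplicative (Additive E) →* Y :=
    ι.comp (MulEquiv.multiplicativeAdditive E).toMonoidHom
  let fg : ρ.range →* Y := H.subtype.comp (MonoidHom.ofInjective hinj).symm.toMonoidHom
  let f : Aff ρ.range →* Y := SemidirectProduct.lift fn fg fun g => MonoidHom.ext fun a => by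
    obtain ⟨h, rfl⟩ := (MonoidHom.ofInjective hinj).surjective g
    have hg : fg (MonoidHom.ofInjective hinj h) = (h : Y) := by
      show (((MonoidHom.ofInjective hinj).symm (MonoidHom.ofInjective hinj h) : H) : Y) = _
      rw [MulEquiv.symm_apply_apply]
    show fn _ = MulAut.conj (fg (MonoidHom.ofInjective hinj h)) (fn a)
    rw [MulAut.conj_apply, hg]
    exact hρ h _
  have hf : Function.Surjective f := fun y => by
    obtain ⟨a, h, hh, rfl⟩ := hdec y
    refine ⟨⟨Multiplicative.ofAdd (Additive.ofMul a), MonoidHom.ofInjective hinj ⟨h, hh⟩⟩, ?_⟩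
    show ι a * (((MonoidHom.ofInjective hinj).symm (MonoidHom.ofInjective hinj ⟨h, hh⟩) : H) : Y) = ι a * h
    rw [MulEquiv.symm_apply_apply]
  refine ⟨finrank (ZMod p) (Additive E), ?_, (card_conjClasses_le_of_surjective f hf).trans
    (kvBound hp5 _ (Additive E) rfl ρ.range inferInstance hss)⟩
  rw [Nat.card_congr (Additive.ofMul (α := E)), Module.natCard_eq_pow_finrank (K := ZMod p), Nat.card_zmod]

/-- **the class number** -/
theorem card_classes_le_of_pPrimeCore_eq_bot (hp5 : 5 ≤ p) (X : Type u) [Group X] [Finite X] [Group.IsSolvable X]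
    (hX : Cfsg.pPrimeCore p X = ⊥) :
    Nat.card (ConjClasses X) ≤
      3 ^ ((Nat.card X).factorization p - 1) * p ^ (Nat.card X).factorization p := by
  classical
  have hp : p.Prime := Fact.out
  set Φ := frattini X with hΦ
  set F := Cfsg.fittingSubgroup X with hF
  haveI : F.Normal := CfsgLib.Coprime.fitting_normal
  have hFp : IsPGroup p F := by
    rw [hF, fitting_eq_pCore_of_pPrimeCore_eq_bot hX]
    exact pCore_isPGroup p
  haveI hΦn : Φ.Normal := inferInstance
  have hΦF : Φ ≤ F := CfsgLib.Coprime.le_fitting frattini_nilpotent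
  set π := QuotientGroup.mk' Φ with hπ
  haveI : Group.IsSolvable (X ⧸ Φ) := Group.isSolvable_of_surjective (QuotientGroup.mk'_surjective Φ)
  set U := F.map π with hUdef
  haveI hUn : U.Normal := Subgroup.Normal.map inferInstance π (QuotientGroup.mk'_surjective Φ)
  have hU : Cfsg.fittingSubgroup (X ⧸ Φ) = U := CfsgLib.Coprime.fitting_quotient_frattini
  have hFsub : ∀ (x : F), x ∈ frattini F → π (x : X) = 1 := fun x hx =>
    (QuotientGroup.eq_one_iff _).2 (CfsgLib.Coprime.frattini_map_subtype_le F ⟨x, hx, rfl⟩)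
  have hUab : ∀ a ∈ U, ∀ b ∈ U, a * b = b * a := by
    rintro _ ⟨a, ha, rfl⟩ _ ⟨b, hb, rfl⟩
    rw [← commutatorElement_eq_one_iff_mul_comm, ← map_commutatorElement]
    exact hFsub ⁅(⟨a, ha⟩ : F), ⟨b, hb⟩⁆ (CfsgLib.Coprime.commutator_le_frattini hFp
      (Subgroup.commutator_mem_commutator (Subgroup.mem_top _) (Subgroup.mem_top _)))
  have hUexp : ∀ a ∈ U, a ^ p = 1 := by
    rintro _ ⟨a, ha, rfl⟩
    rw [← map_pow]
    exact hFsub ((⟨a, ha⟩ : F) ^ p) (CfsgLib.Coprime.pow_mem_frattini hFp _)
  have hY0 : frattini (X ⧸ Φ) = ⊥ := frattini_quotient_frattini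
  have hcompl : ∀ W : Subgroup (X ⧸ Φ), W.Normal → W ≤ U → ∃ L : Subgroup (X ⧸ Φ), W.IsComplement' L := by
    intro W hW hWU
    haveI := hW
    haveI : IsMulCommutative W :=
      ⟨⟨fun a b => Subtype.ext (hUab _ (hWU a.2) _ (hWU b.2))⟩⟩
    exact CfsgLib.Coprime.exists_complement_of_inf_frattini W (by rw [hY0, inf_bot_eq])
  -- the module
  letI : CommGroup U := { (inferInstance : Group U) with
    mul_comm := fun a b => Subtype.ext (hUab _ a.2 _ b.2) }
  have hcent : Subgroup.centralizer (U.subtype.range : Set (X ⧸ Φ)) ≤ U.subtype.range := by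
    rw [Subgroup.range_subtype, ← hU]
    exact CfsgLib.Coprime.centralizer_fitting_le
  have hUexp' : ∀ a : U, a ^ p = 1 := fun a => Subtype.ext (hUexp _ a.2)
  letI : Module (ZMod p) (Additive U) :=
    AddCommGroup.zmodModule fun x : Additive U => congrArg Additive.ofMul (hUexp' (Additive.toMul x))
  obtain ⟨n, hcardU, hk⟩ := card_classes_le_of_module hp5 U.subtype U.subtype_injective
    (by rw [Subgroup.range_subtype]; exact hUn) hcent
    (fun W hW hWU => hcompl W hW (by rwa [Subgroup.range_subtype] at hWU))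
  -- the orders
  set d := (Nat.card X).factorization p with hd
  have hΦp : IsPGroup p Φ := hFp.to_le hΦF
  obtain ⟨k, hk'⟩ := IsPGroup.iff_card.1 hΦp
  have hcardF : Nat.card F = p ^ (k + n) := by
    rw [pow_add, ← hcardU, ← hk', hUdef, ← Subgroup.relIndex_ker, hπ, QuotientGroup.ker_mk', Subgroup.relIndex,
      ← Nat.card_congr (Subgroup.subgroupOfEquivOfLe hΦF).toEquiv, mul_comm, Subgroup.index_mul_card]
  have hle : k + n ≤ d :=
    (hp.pow_dvd_iff_le_factorization Nat.card_pos.ne').1 (hcardF ▸ F.card_subgroup_dvd_card)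
  refine (Cfsg.Agent.S4201.result Φ).trans ((Nat.mul_le_mul card_conjClasses_le_card hk).trans ?_)
  rw [hk', mul_left_comm, ← pow_add]
  exact Nat.mul_le_mul (Nat.pow_le_pow_right (by norm_num) (by omega)) (Nat.pow_le_pow_right hp.pos hle)

end CfsgLib.Coprime.KVSolvable
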