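import Cfsg.Agent.Lib.Coprime.KVSolvable.Prim
import Cfsg.Agent.Lib.Coprime.ClassLower.Blocks

/-!
# The class number of a semisimple solvable affine group
-/

set_option autoImplicit false
set_option linter.style.haveILetI false
set_option linter.unusedSectionVars false

namespace CfsgLib.Coprime.KVSolvable

open Module CfsgLib.Char CfsgLib.Char.Berger CfsgLib.Coprime.ClassMod CfsgLib.Coprime.ClassLower

universe v

variable {p : ℕ} [Fact p.Prime]

/-- the bound in dimension `m` -/
def KVBound (p : ℕ) [Fact p.Prime] (m : ℕ) : Prop :=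
  ∀ (V : Type v) [AddCommGroup V] [Module (ZMod p) V] [Finite V], finrank (ZMod p) V = m →
    ∀ G : Subgroup (V ≃ₗ[ZMod p] V), Group.IsSolvable G → SS G → kAff G ≤ 3 ^ (m - 1) * p ^ m

variable {V : Type v} [AddCommGroup V] [Module (ZMod p) V] [Finite V]

/-- the split step -/
theorem kAff_le_of_split {G : Subgroup (V ≃ₗ[ZMod p] V)} (hs : Group.IsSolvable G) (hss : SS G)
    {W W' : Submodule (ZMod p) V} (hW : Inv G W) (hW' : Inv G W') (hc : IsCompl W W')
    (hb : KVBound.{v} p (finrank (ZMod p) W)) {x : ℕ}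
    (hb' : kAff (resHom hW').range ≤ 3 ^ x * p ^ finrank (ZMod p) W') :
    kAff G ≤ 3 ^ (finrank (ZMod p) W - 1 + x) * p ^ finrank (ZMod p) V := by
  classical
  haveI := hs
  haveI : FiniteDimensional (ZMod p) V := Module.Finite.of_finite
  set r := (resHom hW).comp (resHom hW').ker.subtype with hr
  have hle : r.range ≤ (resHom hW).range := by
    rintro _ ⟨k, rfl⟩
    exact ⟨_, rfl⟩
  have hn : ∀ g ∈ (resHom hW).range, ∀ x ∈ r.range, g * x * g⁻¹ ∈ r.range := by
    rintro _ ⟨g, rfl⟩ _ ⟨k, rfl⟩
    refine ⟨⟨g * k * g⁻¹, (MonoidHom.normal_ker (resHom hW')).conj_mem _ k.2 g⟩, ?_⟩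
    show resHom hW (g * k * g⁻¹) = _
    rw [map_mul, map_mul, map_inv]
    rfl
  haveI : Group.IsSolvable r.range := Group.isSolvable_of_surjective r.rangeRestrict_surjective
  refine (kAff_le_split hW hW' hc).trans
    ((Nat.mul_le_mul (hb W rfl r.range inferInstance (ss_of_normal (hss.res hW) hle hn)) hb').trans (le_of_eq ?_))
  rw [mul_mul_mul_comm, ← pow_add, ← pow_add, Submodule.finrank_add_eq_of_isCompl hc]

/-- several invariant blocks -/
theorem kAff_le_of_blocks {N : ℕ} (hQ : ∀ m < N, KVBound.{v} p m) : ∀ (k : ℕ) (V : Type v) [AddCommGroup V]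
    [Module (ZMod p) V] [Finite V] (G : Subgroup (V ≃ₗ[ZMod p] V)), Group.IsSolvable G → SS G →
    ∀ S : Finset (Submodule (ZMod p) V), IsSys G S → (∀ W ∈ S, Inv G W) → S.card = k → 1 ≤ k →
    finrank (ZMod p) V ≤ N → (k = 1 → finrank (ZMod p) V < N) →
    kAff G ≤ 3 ^ (finrank (ZMod p) V - k) * p ^ finrank (ZMod p) V := by
  intro k
  induction k using Nat.strong_induction_on with
  | _ k ih =>
  intro V _ _ _ G hs hss S hS hinv hk hk1 hle hlt
  classical
  haveI : FiniteDimensional (ZMod p) V := Module.Finite.of_finite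
  rcases eq_or_lt_of_le hk1 with rfl | hk2
  · exact hQ _ (hlt rfl) V rfl G hs hss
  obtain ⟨W, hWS⟩ : S.Nonempty := Finset.card_pos.1 (by omega)
  set T := S.erase W with hT
  set W' : Submodule (ZMod p) V := T.sup id with hW'
  have hW'inv : Inv G W' := inv_sup (G := G) fun g hg U hU => by
    have hUS := Finset.mem_of_mem_erase hU
    have : moveSub g U = U := by
      refine Submodule.eq_of_le_of_finrank_le ?_ (finrank_moveSub g U).ge
      rintro _ ⟨u, hu, rfl⟩
      exact hinv U hUS g hg u hu
    rwa [this]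
  have htop : W ⊔ W' = ⊤ := by
    rw [← hS.sup_eq, ← Finset.insert_erase hWS, Finset.sup_insert]
    rfl
  have hsum : finrank (ZMod p) W + ∑ U ∈ T, finrank (ZMod p) U ≤ finrank (ZMod p) V := by
    rw [hT, Finset.add_sum_erase S (fun U : Submodule (ZMod p) V => finrank (ZMod p) U) hWS]
    exact hS.sum_le
  have hle' := finrank_sup_le_sum T
  rw [← hW'] at hle'
  have hdim := Submodule.finrank_sup_add_finrank_inf_eq W W'
  rw [htop, finrank_top] at hdim
  have hc : IsCompl W W' := ⟨disjoint_iff.2 (Submodule.finrank_eq_zero.1 (by omega)), codisjoint_iff.2 htop⟩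
  have hTcard : T.card = k - 1 := by rw [hT, Finset.card_erase_of_mem hWS, hk]
  have hpos : ∀ U ∈ S, 1 ≤ finrank (ZMod p) U := fun U hU => Nat.one_le_iff_ne_zero.2 fun h0 =>
    hS.ne_bot U hU (Submodule.finrank_eq_zero.1 h0)
  have hTsum : T.card ≤ ∑ U ∈ T, finrank (ZMod p) U := by
    rw [Finset.card_eq_sum_ones]
    exact Finset.sum_le_sum fun U hU => hpos U (Finset.mem_of_mem_erase hU)
  have hW1 := hpos W hWS
  -- the blocks inside `W'`
  have hUW : ∀ U ∈ T, U ≤ W' := fun U hU => Finset.le_sup (f := id) hU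
  have hmc : ∀ U ∈ T, (U.comap W'.subtype).map W'.subtype = U := fun U hU => by
    rw [Submodule.map_comap_subtype, inf_eq_right]
    exact hUW U hU
  set T' := T.image (Submodule.comap W'.subtype) with hT'
  have hinjT : Set.InjOn (Submodule.comap W'.subtype) (T : Set (Submodule (ZMod p) V)) := fun a ha b hb hab => by
    rw [← hmc a ha, ← hmc b hb, hab]
  have hrk : ∀ U ∈ T, finrank (ZMod p) (U.comap W'.subtype) = finrank (ZMod p) U := fun U hU => by
    conv_rhs => rw [← hmc U hU]
    exact (Submodule.finrank_map_subtype_eq _ _).symm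
  haveI := hs
  haveI : Group.IsSolvable (resHom hW'inv).range := Group.isSolvable_of_surjective (resHom hW'inv).rangeRestrict_surjective
  have hinv' : ∀ U ∈ T', Inv (resHom hW'inv).range U := by
    intro U hU
    obtain ⟨U₀, hU₀, rfl⟩ := Finset.mem_image.1 hU
    rintro _ ⟨g, rfl⟩ u hu
    exact hinv U₀ (Finset.mem_of_mem_erase hU₀) _ g.2 _ hu
  have hsys : IsSys (resHom hW'inv).range T' := by
    refine ⟨fun g hg U hU => ?_, fun U hU => ?_, ?_, ?_⟩
    · have : moveSub g U = U := by
        refine Submodule.eq_of_le_of_finrank_le ?_ (finrank_moveSub g U).ge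
        rintro _ ⟨u, hu, rfl⟩
        exact hinv' U hU g hg u hu
      rwa [this]
    · obtain ⟨U₀, hU₀, rfl⟩ := Finset.mem_image.1 hU
      intro h0
      refine hS.ne_bot U₀ (Finset.mem_of_mem_erase hU₀) ?_
      rw [← hmc U₀ hU₀, h0, Submodule.map_bot]
    · refine eq_top_iff.2 fun w _ => ?_
      have h1 : W' ≤ (T'.sup id).map W'.subtype := Finset.sup_le fun U hU => (hmc U hU).ge.trans
        (Submodule.map_mono (Finset.le_sup (f := id) (Finset.mem_image_of_mem _ hU)))
      obtain ⟨w', hw', e⟩ := Submodule.mem_map.1 (h1 w.2)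
      obtain rfl : w' = w := Subtype.ext e
      exact hw'
    · rw [hT', Finset.sum_image hinjT, Finset.sum_congr rfl hrk]
      omega
  have hkT : T'.card = k - 1 := by rw [hT', Finset.card_image_of_injOn hinjT, hTcard]
  have hb' := ih (k - 1) (by omega) W' (resHom hW'inv).range inferInstance (hss.res hW'inv) T' hsys hinv' hkT
    (by omega) (by omega) (fun _ => by omega)
  refine (kAff_le_of_split hs hss (hinv W hWS) hW'inv hc (hQ _ (by omega)) hb').trans ?_
  exact Nat.mul_le_mul_right _ (Nat.pow_le_pow_right (by norm_num) (by omega))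

/-- **semisimple solvable affine groups** -/
theorem kvBound (hp5 : 5 ≤ p) : ∀ n, KVBound.{v} p n := by
  intro n
  induction n using Nat.strong_induction_on with
  | _ n ih =>
  intro V _ _ _ hn G hs hss
  classical
  subst hn
  haveI := hs
  haveI : FiniteDimensional (ZMod p) V := Module.Finite.of_finite
  rcases Nat.eq_zero_or_pos (finrank (ZMod p) V) with h0 | hpos
  · haveI : Subsingleton V := Module.finrank_zero_iff.1 h0
    haveI : Subsingleton (Aff G) := ⟨fun a b => SemidirectProduct.ext (Subsingleton.elim _ _)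
      (Subtype.ext (LinearEquiv.ext fun v => Subsingleton.elim _ _))⟩
    refine card_conjClasses_le_card.trans (le_trans (Finite.card_le_one_iff_subsingleton.2 inferInstance) ?_)
    rw [h0]
    simp
  haveI : Nontrivial V := Module.nontrivial_of_finrank_pos hpos
  by_cases hi : Irr G
  · by_cases hsys : ∃ S, IsSys G S ∧ 2 ≤ S.card
    · obtain ⟨S, hS, hS2⟩ := hsys
      set N := (permHom hS).ker with hN
      have hinvN : ∀ W ∈ S, Inv (N.map G.subtype) W := by
        rintro W hW _ ⟨g, hg, rfl⟩ w hw
        have h1 : moveSub (g : V ≃ₗ[ZMod p] V) W = W :=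
          congrArg Subtype.val (DFunLike.congr_fun (MonoidHom.mem_ker.1 hg) (⟨W, hW⟩ : S))
        have h2 : (g : V ≃ₗ[ZMod p] V) w ∈ moveSub (g : V ≃ₗ[ZMod p] V) W := ⟨w, hw, rfl⟩
        rwa [h1] at h2
      have hle : N.map G.subtype ≤ G := Subgroup.map_subtype_le N
      have hnorm : ∀ g ∈ G, ∀ x ∈ N.map G.subtype, g * x * g⁻¹ ∈ N.map G.subtype := by
        rintro g hg _ ⟨x, hx, rfl⟩
        exact ⟨(⟨g, hg⟩ : G) * x * (⟨g, hg⟩ : G)⁻¹,
          (MonoidHom.normal_ker (permHom hS)).conj_mem x hx (⟨g, hg⟩ : G), rfl⟩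
      haveI : Group.IsSolvable (N.map G.subtype) := Group.isSolvable_of_surjective (G.subtype.subgroupMap_surjective N)
      have hsysN : IsSys (N.map G.subtype) S :=
        ⟨fun g hg W hW => hS.stable g (hle hg) W hW, hS.ne_bot, hS.sup_eq, hS.sum_le⟩
      have h1 := kAff_le_of_blocks ih S.card V (N.map G.subtype) inferInstance (ss_of_normal hss hle hnorm) S hsysN hinvN
        rfl (by omega) le_rfl (fun h => by omega)
      have h2 : Nat.card (ConjClasses (G ⧸ N)) ≤ 3 ^ (S.card - 1) := by
        refine card_conjClasses_le_card.trans ?_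
        rw [← Subgroup.index_eq_card, hN, Subgroup.index_ker]
        haveI : Group.IsSolvable (permHom hS).range :=
          Group.isSolvable_of_surjective (permHom hS).rangeRestrict_surjective
        refine (CfsgLib.Coprime.ClassMod.card_perm_subgroup_le (permHom hS).range).trans ?_
        rw [Nat.card_eq_fintype_card, Fintype.card_coe]
      refine (kAff_le_normal G N).trans ((Nat.mul_le_mul h1 h2).trans (le_of_eq ?_))
      rw [mul_right_comm, ← pow_add]
      congr 2
      have h3 : S.card ≤ finrank (ZMod p) V := le_trans (by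
        rw [Finset.card_eq_sum_ones]
        exact Finset.sum_le_sum fun W hW => Nat.one_le_iff_ne_zero.2 fun h0 =>
          hS.ne_bot W hW (Submodule.finrank_eq_zero.1 h0)) hS.sum_le
      omega
    · refine kAff_of_allField G hs (fun A hAn hA => ?_) hp5
      haveI := hAn
      exact (field_or_system hi A hA).resolve_right hsys
  · simp only [Irr, not_forall, not_or] at hi
    obtain ⟨W, hW, hWb, hWt⟩ := hi
    obtain ⟨W', hW', hc⟩ := hss W hW
    have hW'b : W' ≠ ⊥ := fun h => hWt (eq_top_of_isCompl_bot (h ▸ hc))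
    have h1 : 1 ≤ finrank (ZMod p) W := Nat.one_le_iff_ne_zero.2 fun h0 => hWb (Submodule.finrank_eq_zero.1 h0)
    have h2 : 1 ≤ finrank (ZMod p) W' := Nat.one_le_iff_ne_zero.2 fun h0 => hW'b (Submodule.finrank_eq_zero.1 h0)
    have h3 := Submodule.finrank_add_eq_of_isCompl hc
    haveI : Group.IsSolvable (resHom hW').range := Group.isSolvable_of_surjective (resHom hW').rangeRestrict_surjective
    refine (kAff_le_of_split hs hss hW hW' hc (ih _ (by omega))
      (ih _ (by omega) W' rfl (resHom hW').range inferInstance (hss.res hW'))).trans ?_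
    exact Nat.mul_le_mul_right _ (Nat.pow_le_pow_right (by norm_num) (by omega))

end CfsgLib.Coprime.KVSolvable
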