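import Cfsg.Agent.Lib.Coprime.ClassLower.Sys

/-!
# Class numbers of the isometries inside a group of similitudes without invariant isotropic subspaces
-/

set_option autoImplicit false
set_option linter.style.haveILetI false
set_option linter.unusedSectionVars false

namespace CfsgLib.Coprime.KVSolvable

open Module CfsgLib.Char CfsgLib.Char.Berger CfsgLib.Coprime.ClassMod CfsgLib.Coprime.ClassLower

universe v w

variable {p : ℕ} [Fact p.Prime] {V : Type v} [AddCommGroup V] [Module (ZMod p) V] [Finite V]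

/-- A normal subgroup of a semisimple linear group is semisimple. -/
theorem ss_of_normal {X N : Subgroup (V ≃ₗ[ZMod p] V)} (hX : SS X) (hle : N ≤ X)
    (hn : ∀ g ∈ X, ∀ x ∈ N, g * x * g⁻¹ ∈ N) : SS N := by
  classical
  haveI : FiniteDimensional (ZMod p) V := Module.Finite.of_finite
  haveI : Finite (Submodule (ZMod p) V) := Finite.of_injective (fun W => (W : Set V)) SetLike.coe_injective
  -- the invariant minimal subspaces span everything
  let Mn : Submodule (ZMod p) V → Prop := fun S => Minimal (fun S => Inv N S ∧ S ≠ ⊥) S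
  have hbelow : ∀ W, Inv N W → W ≠ ⊥ → ∃ S, Mn S ∧ S ≤ W := fun W hW hW0 => by
    obtain ⟨S, hS, hmin⟩ := Finite.exists_le_minimal (p := fun S => Inv N S ∧ S ≠ ⊥) ⟨hW, hW0⟩
    exact ⟨S, hmin, hS⟩
  let Soc : Submodule (ZMod p) V := sSup {S | Mn S}
  have hmove : ∀ g ∈ X, ∀ S, Inv N S → Inv N (moveSub g S) := by
    rintro g hg S hS x hx _ ⟨s, hs, rfl⟩
    refine ⟨(g⁻¹ * x * g) s, hS _ ?_ s hs, ?_⟩
    · have := hn g⁻¹ (inv_mem hg) x hx
      rwa [inv_inv] at this
    · show g ((g⁻¹ * x * g) s) = x (g s)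
      rw [LinearEquiv.mul_apply, LinearEquiv.mul_apply]
      exact LinearEquiv.apply_symm_apply g _
  have hMn : ∀ g ∈ X, ∀ S, Mn S → Mn (moveSub g S) := by
    intro g hg S hS
    refine ⟨⟨hmove g hg S hS.1.1, fun h => hS.1.2 (Submodule.finrank_eq_zero.1 ?_)⟩, fun U hU hle => ?_⟩
    · rw [← finrank_moveSub g S, h, finrank_bot]
    · have h1 : moveSub g⁻¹ U ≤ S := (Submodule.map_mono hle).trans_eq (moveSub_inv_eq rfl)
      have h2 := hS.le_of_le ⟨hmove g⁻¹ (inv_mem hg) U hU.1, fun h => hU.2 (Submodule.finrank_eq_zero.1 (by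
        rw [← finrank_moveSub g⁻¹ U, h, finrank_bot]))⟩ h1
      refine (Submodule.map_mono h2).trans_eq ?_
      show moveSub g (moveSub g⁻¹ U) = U
      rw [← moveSub_mul, mul_inv_cancel, moveSub_one]
  have hSoc : Inv X Soc := by
    intro g hg v hv
    have h1 : Soc ≤ Soc.comap g.toLinearMap := sSup_le fun S hS s hs =>
      (le_sSup (hMn g hg S hS) : moveSub g S ≤ Soc) ⟨s, hs, rfl⟩
    exact h1 hv
  obtain ⟨C, hC, hcompl⟩ := hX Soc hSoc
  have htop : Soc = ⊤ := by
    by_contra hne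
    have hC0 : C ≠ ⊥ := fun h => hne (eq_top_of_isCompl_bot (h ▸ hcompl))
    obtain ⟨S, hS, hSC⟩ := hbelow C (fun x hx => hC x (hle hx)) hC0
    exact hS.1.2 (eq_bot_iff.2 ((le_inf (show S ≤ Soc from le_sSup hS) hSC).trans hcompl.disjoint.le_bot))
  intro W hW
  obtain ⟨U, -, hmax⟩ := Finite.exists_le_maximal (p := fun U => Inv N U ∧ Disjoint W U)
    (a := (⊥ : Submodule (ZMod p) V))
    ⟨fun g _ v hv => by rw [(Submodule.mem_bot _).1 hv, map_zero]; exact zero_mem _, disjoint_bot_right⟩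
  refine ⟨U, hmax.1.1, hmax.1.2, codisjoint_iff.2 (by_contra fun hne => ?_)⟩
  obtain ⟨S, hS, hSn⟩ : ∃ S, Mn S ∧ ¬ S ≤ W ⊔ U := by
    by_contra! h
    exact hne (top_le_iff.1 (htop ▸ sSup_le h))
  have hdis : (W ⊔ U) ⊓ S = ⊥ := by
    by_contra h0
    have hWU : Inv N (W ⊔ U) := by
      intro g hg v hv
      obtain ⟨a, ha, b, hb, rfl⟩ := Submodule.mem_sup.1 hv
      rw [map_add]
      exact Submodule.add_mem_sup (hW g hg a ha) (hmax.1.1 g hg b hb)
    exact hSn ((hS.le_of_le ⟨fun g hg v hv => Submodule.mem_inf.2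
      ⟨hWU g hg v (Submodule.mem_inf.1 hv).1, hS.1.1 g hg v (Submodule.mem_inf.1 hv).2⟩, h0⟩ inf_le_right).trans
      inf_le_left)
  have h2 : Inv N (U ⊔ S) := by
    intro g hg v hv
    obtain ⟨a, ha, b, hb, rfl⟩ := Submodule.mem_sup.1 hv
    rw [map_add]
    exact Submodule.add_mem_sup (hmax.1.1 g hg a ha) (hS.1.1 g hg b hb)
  have h3 : Disjoint W (U ⊔ S) := by
    have hd : Disjoint (W ⊔ U) S := disjoint_iff.2 hdis
    exact hmax.1.2.disjoint_sup_right_of_disjoint_sup_left hd
  exact hSn ((le_sup_right.trans (hmax.le_of_ge ⟨h2, h3⟩ le_sup_left)).trans le_sup_right)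

/-- the symplectic bound under semisimplicity -/
theorem kc_symplectic_ss (b : V →ₗ[ZMod p] V →ₗ[ZMod p] ZMod p) (halt : ∀ v, b v v = 0)
    (hb : ∀ v, (∀ w, b v w = 0) → v = 0) {m : ℕ} (hm : 1 ≤ m) (hd : finrank (ZMod p) V = 2 * m)
    (X : Subgroup (V ≃ₗ[ZMod p] V)) (hX : ∀ g ∈ X, ∀ v w, b (g v) (g w) = b v w)
    (hs : Group.IsSolvable X) (hss : SS X) : KC X (3 ^ (p ^ m - 1)) := by
  haveI := finite_gl (p := p) (V := V)
  rcases symp_arith (p := p) Fact.out hm with h | h
  swap
  · exact KC.of_card ((card_isometries_le b hb hd X hX).trans h)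
  simp only [excPairs, List.mem_cons, Prod.mk.injEq, List.not_mem_nil, or_false] at h
  rcases h with ⟨rfl, rfl⟩ | ⟨rfl, rfl⟩ | ⟨rfl, rfl⟩ | ⟨rfl, rfl⟩ | ⟨rfl, rfl⟩ | ⟨rfl, rfl⟩ | ⟨rfl, rfl⟩ | ⟨rfl, rfl⟩
  · exact (kc_two_dim_two X hd).mono (by norm_num)
  · exact (kc_two_dim_four b hb X hX hs hss hd).mono (by norm_num)
  · exact KC.of_card ((ob_two 6 (by norm_num) V hd X hs hss).trans (by decide +kernel))
  · exact KC.of_card ((ob_two 8 (by norm_num) V hd X hs hss).trans (by decide +kernel))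
  · exact KC.of_card ((ob_two 10 (by norm_num) V hd X hs hss).trans (by decide +kernel))
  · exact (kc_dim_two kc_sl2_three X hd fun g hg => det_eq_one_of_form b halt hb hd g (hX g hg)).mono (by norm_num)
  · exact KC.of_card ((ob_three 4 (by norm_num) V hd X hs hss).trans (by decide +kernel))
  · exact (kc_dim_two kc_sl2_five X hd fun g hg => det_eq_one_of_form b halt hb hd g (hX g hg)).mono (by norm_num)

/-- one prime, with a module structure -/
theorem kc_map_prime_aux {q : ℕ} [Fact q.Prime] {M : Type v} [CommGroup M] [Finite M] [Nontrivial M]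
    [Module (ZMod q) (Additive M)] (hexp : ∀ x : M, x ^ q = 1) {Z : Type w} [CommGroup Z] [Finite Z]
    (hZ : Nat.card (killedBy Z q) ≤ q) (β : M →* M →* Z) (halt : ∀ x, β x x = 1)
    (hnd : ∀ x, (∀ y, β x y = 1) → x = 1) {G : Type*} [Group G] [Finite G] [Group.IsSolvable G]
    (act : G →* MulAut M) (C : Subgroup G) [C.Normal] (hinv : ∀ g ∈ C, ∀ x y, β (act g x) (act g y) = β x y)
    (hzero : ∀ g x y, β x y = 1 → β (act g x) (act g y) = 1)
    (hiso : ∀ U : Subgroup M, (∀ g, ∀ u ∈ U, act g u ∈ U) → (∀ u ∈ U, ∀ v ∈ U, β u v = 1) → U = ⊥) :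
    ∃ m, Nat.card M = q ^ (2 * m) ∧ KC (C.map act) (3 ^ (q ^ m - 1)) := by
  classical
  obtain ⟨m, hm⟩ := exists_card_eq_pow_two_mul_of_pairing hZ _ M rfl hexp β halt hnd
  haveI : Finite (Additive M) := Finite.of_equiv M Additive.ofMul
  refine ⟨m, hm, ?_⟩
  have hm1 : 1 ≤ m := by
    by_contra h
    have h1 : Nat.card M = 1 := by rw [hm, show m = 0 by omega]; norm_num
    exact absurd h1 (Finite.one_lt_card (α := M)).ne'
  have hd : finrank (ZMod q) (Additive M) = 2 * m := by
    refine Nat.pow_right_injective (Fact.out : q.Prime).two_le ?_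
    show q ^ finrank (ZMod q) (Additive M) = q ^ (2 * m)
    rw [← hm, Nat.card_congr (Additive.ofMul (α := M)), Module.natCard_eq_pow_finrank (K := ZMod q) (V := Additive M),
      Nat.card_zmod]
  have hval : ∀ x y, β x y ∈ killedBy Z q := fun x y => mem_killedBy.2 (by rw [← map_pow, hexp, map_one])
  have hcard : Nat.card (killedBy Z q) = q := by
    refine le_antisymm hZ ?_
    obtain ⟨x, hx⟩ := exists_ne (1 : M)
    obtain ⟨y, hy⟩ : ∃ y, β x y ≠ 1 := by
      by_contra! h
      exact hx (hnd x h)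
    have h1 : orderOf (⟨β x y, hval x y⟩ : killedBy Z q) = q :=
      orderOf_eq_prime (Subtype.ext (mem_killedBy.1 (hval x y))) fun h => hy (congrArg Subtype.val h)
    refine Nat.le_of_dvd Nat.card_pos ?_
    conv_lhs => rw [← h1]
    exact orderOf_dvd_natCard _
  haveI : IsCyclic (killedBy Z q) := isCyclic_of_prime_card hcard
  let e : killedBy Z q ≃* Multiplicative (ZMod q) :=
    mulEquivOfCyclicCardEq (by rw [hcard, Nat.card_congr Multiplicative.toAdd, Nat.card_zmod])
  let b0 : Additive M → Additive M → ZMod q := fun u v => (e ⟨β u.toMul v.toMul, hval _ _⟩).toAdd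
  have hb0l : ∀ u u' v, b0 (u + u') v = b0 u v + b0 u' v := fun u u' v => by
    show (e _).toAdd = (e _).toAdd + (e _).toAdd
    rw [← toAdd_mul, ← map_mul]
    congr 2
    exact Subtype.ext (by simp)
  have hb0r : ∀ u v v', b0 u (v + v') = b0 u v + b0 u v' := fun u v v' => by
    show (e _).toAdd = (e _).toAdd + (e _).toAdd
    rw [← toAdd_mul, ← map_mul]
    congr 2
    exact Subtype.ext (map_mul _ _ _)
  let bl : Additive M → (Additive M →ₗ[ZMod q] ZMod q) := fun u =>
    (AddMonoidHom.mk' (b0 u) (hb0r u)).toZModLinearMap q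
  let bb : Additive M →ₗ[ZMod q] (Additive M →ₗ[ZMod q] ZMod q) :=
    (AddMonoidHom.mk' bl fun u u' => LinearMap.ext fun v => hb0l u u' v).toZModLinearMap q
  have hzero' : ∀ u v, bb u v = 0 ↔ β u.toMul v.toMul = 1 := by
    intro u v
    constructor
    · intro h
      have h2 : (⟨β u.toMul v.toMul, hval _ _⟩ : killedBy Z q) = 1 :=
        e.injective ((Multiplicative.toAdd.injective (h : (e _).toAdd = (1 : Multiplicative (ZMod q)).toAdd)).trans
          (map_one e).symm)
      exact congrArg Subtype.val h2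
    · intro h
      show (e _).toAdd = 0
      rw [show (⟨β u.toMul v.toMul, hval _ _⟩ : killedBy Z q) = 1 from Subtype.ext h, map_one]
      rfl
  have hbnd : ∀ u, (∀ v, bb u v = 0) → u = 0 := fun u hu =>
    Additive.toMul.injective (hnd u.toMul fun y => (hzero' u (Additive.ofMul y)).1 (hu _))
  haveI := finite_gl (p := q) (V := Additive M)
  let L : G →* (Additive M ≃ₗ[ZMod q] Additive M) := (toLin q M).comp act
  have hLinj : Function.Injective (toLin q M) := fun α α' h => MulEquiv.ext fun x =>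
    congrArg Additive.toMul (DFunLike.congr_fun h (Additive.ofMul x))
  haveI : Group.IsSolvable L.range := Group.isSolvable_of_surjective L.rangeRestrict_surjective
  have hssL : SS L.range := by
    refine ss_of_zero bb L.range ?_ ?_
    · rintro _ ⟨g, rfl⟩ u v huv
      exact (hzero' _ _).2 (hzero g u.toMul v.toMul ((hzero' u v).1 huv))
    · intro W hW hW0
      let U : Subgroup M :=
        { carrier := {x | Additive.ofMul x ∈ W}
          one_mem' := zero_mem W
          mul_mem' := fun {a b} ha hb => add_mem (s := W) ha hb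
          inv_mem' := fun {a} ha => neg_mem (s := W) ha }
      have hU := hiso U (fun g u hu => hW _ ⟨g, rfl⟩ _ hu) fun u hu v hv => (hzero' _ _).1 (hW0 _ hu _ hv)
      refine (Submodule.eq_bot_iff W).2 fun w hw => ?_
      have hmem : w.toMul ∈ U := hw
      rw [hU, Subgroup.mem_bot] at hmem
      exact congrArg Additive.ofMul hmem
  haveI : Group.IsSolvable (C.map L) := Group.isSolvable_of_surjective (L.subgroupMap_surjective C)
  have hk : KC (C.map L) (3 ^ (q ^ m - 1)) := by
    refine kc_symplectic_ss bb (fun u => (hzero' u u).2 (halt _)) hbnd hm1 hd _ ?_ inferInstance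
      (ss_of_normal hssL (Subgroup.map_le_range L C) ?_)
    · rintro _ ⟨g, hg, rfl⟩ u v
      show (e _).toAdd = (e _).toAdd
      congr 2
      exact Subtype.ext (hinv g hg u.toMul v.toMul)
    · rintro _ ⟨g, rfl⟩ _ ⟨x, hx, rfl⟩
      exact ⟨g * x * g⁻¹, Subgroup.Normal.conj_mem inferInstance x hx g, by rw [map_mul, map_mul, map_inv]⟩
  let e' : C.map act ≃* (C.map act).map (toLin q M) := (C.map act).equivMapOfInjective _ hLinj
  haveI : Finite (C.map act) := Finite.Set.finite_image (C : Set G) act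
  exact KC.of_injective (e'.trans (MulEquiv.subgroupCongr (Subgroup.map_map _ _ _))).toMonoidHom
    (e'.trans (MulEquiv.subgroupCongr (Subgroup.map_map _ _ _))).injective hk

/-- one prime -/
theorem kc_map_prime {q : ℕ} [Fact q.Prime] {M : Type v} [CommGroup M] [Finite M] [Nontrivial M]
    (hexp : ∀ x : M, x ^ q = 1) {Z : Type w} [CommGroup Z] [Finite Z]
    (hZ : Nat.card (killedBy Z q) ≤ q) (β : M →* M →* Z) (halt : ∀ x, β x x = 1)
    (hnd : ∀ x, (∀ y, β x y = 1) → x = 1) {G : Type*} [Group G] [Finite G] [Group.IsSolvable G]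
    (act : G →* MulAut M) (C : Subgroup G) [C.Normal] (hinv : ∀ g ∈ C, ∀ x y, β (act g x) (act g y) = β x y)
    (hzero : ∀ g x y, β x y = 1 → β (act g x) (act g y) = 1)
    (hiso : ∀ U : Subgroup M, (∀ g, ∀ u ∈ U, act g u ∈ U) → (∀ u ∈ U, ∀ v ∈ U, β u v = 1) → U = ⊥) :
    ∃ m, Nat.card M = q ^ (2 * m) ∧ KC (C.map act) (3 ^ (q ^ m - 1)) :=
  @kc_map_prime_aux q _ M _ _ _ (AddCommGroup.zmodModule fun a => congrArg Additive.ofMul (hexp a.toMul))
    hexp Z _ _ hZ β halt hnd G _ _ _ act C _ hinv hzero hiso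

/-- **all primes together** -/
theorem kc_map_pairing {E : Type v} [CommGroup E] [Finite E]
    (hsq : ∀ q : ℕ, q.Prime → ∀ x : E, x ^ (q ^ 2) = 1 → x ^ q = 1) {Z : Type w} [CommGroup Z] [Finite Z]
    (hZ : ∀ q : ℕ, q.Prime → Nat.card (killedBy Z q) ≤ q) (β : E →* E →* Z) (halt : ∀ x, β x x = 1)
    (hnd : ∀ x, (∀ y, β x y = 1) → x = 1) {G : Type*} [Group G] [Finite G] [Group.IsSolvable G]
    (act : G →* MulAut E) (C : Subgroup G) [C.Normal] (hinv : ∀ g ∈ C, ∀ x y, β (act g x) (act g y) = β x y)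
    (hzero : ∀ g x y, β x y = 1 → β (act g x) (act g y) = 1)
    (hiso : ∀ U : Subgroup E, (∀ g, ∀ u ∈ U, act g u ∈ U) → (∀ u ∈ U, ∀ v ∈ U, β u v = 1) → U = ⊥)
    {r : ℕ} (hr : Nat.card E ≤ r ^ 2) : KC (C.map act) (3 ^ (r - 1)) := by
  classical
  set s := (Nat.card E).primeFactors with hs
  let actp : ∀ q : s, G →* MulAut (killedBy E (q : ℕ)) := fun q => (restrictKilledBy E (q : ℕ)).comp act
  have hone : ∀ q : s, ∃ m, Nat.card (killedBy E (q : ℕ)) = (q : ℕ) ^ (2 * m) ∧
      KC (C.map (actp q)) (3 ^ ((q : ℕ) ^ m - 1)) := by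
    intro q
    haveI := Fact.mk (Nat.prime_of_mem_primeFactors q.2)
    obtain ⟨x, hx⟩ := exists_prime_orderOf_dvd_card' (G := E) (q : ℕ) (Nat.dvd_of_mem_primeFactors q.2)
    haveI : Nontrivial (killedBy E (q : ℕ)) := ⟨⟨⟨x, mem_killedBy.2 (by rw [← hx, pow_orderOf_eq_one])⟩, 1, fun h => by
      have h1 : x = 1 := congrArg Subtype.val h
      rw [h1, orderOf_one] at hx
      exact (Fact.out : (q : ℕ).Prime).ne_one hx.symm⟩⟩
    let β' : killedBy E (q : ℕ) →* killedBy E (q : ℕ) →* Z :=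
      MonoidHom.mk' (fun a => (β (a : E)).comp (killedBy E (q : ℕ)).subtype) fun a b => by ext c; simp
    refine kc_map_prime (fun x : killedBy E (q : ℕ) => Subtype.ext (mem_killedBy.1 x.2))
      (hZ q Fact.out) β' (fun x => halt x) ?_
      (actp q) C (fun g hg x y => hinv g hg x y) (fun g x y => hzero g x y) (fun U hU hU0 => ?_)
    · intro x hx
      refine Subtype.ext (hnd x fun y => ?_)
      have htop : (β (x : E)).ker = ⊤ := eq_top_of_killedBy hsq _ fun r hr z hz => by
        rcases eq_or_ne r (q : ℕ) with rfl | hne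
        · exact hx ⟨z, hz⟩
        · refine MonoidHom.mem_ker.2 (orderOf_eq_one_iff.1 (Nat.eq_one_of_dvd_coprimes
            ((Nat.coprime_primes (Nat.prime_of_mem_primeFactors hr) Fact.out).2 hne) ?_ ?_))
          · exact orderOf_dvd_of_pow_eq_one (by rw [← map_pow, mem_killedBy.1 hz, map_one])
          · refine orderOf_dvd_of_pow_eq_one ?_
            rw [← MonoidHom.pow_apply, ← map_pow, mem_killedBy.1 x.2, map_one, MonoidHom.one_apply]
      exact MonoidHom.mem_ker.1 (htop ▸ Subgroup.mem_top y)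
    · have h := hiso (U.map (killedBy E (q : ℕ)).subtype) (by
        rintro g _ ⟨u, hu, rfl⟩
        exact ⟨actp q g u, hU g u hu, rfl⟩) (by
        rintro _ ⟨u, hu, rfl⟩ _ ⟨v, hv, rfl⟩
        exact hU0 u hu v hv)
      exact (Subgroup.map_eq_bot_iff_of_injective _ (killedBy E (q : ℕ)).subtype_injective).1 h
  choose m hm hk using hone
  haveI : Finite (C.map act) := Finite.Set.finite_image (C : Set G) act
  haveI : ∀ q : s, Finite (C.map (actp q)) := fun q => Finite.Set.finite_image (C : Set G) (actp q)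
  let Φ : C.map act →* ∀ q : s, C.map (actp q) :=
    MonoidHom.pi fun q => ((restrictKilledBy E (q : ℕ)).comp (C.map act).subtype).codRestrict _ fun x => by
      obtain ⟨g, hg, hgx⟩ := Subgroup.mem_map.1 x.2
      exact ⟨g, hg, by show restrictKilledBy E (q : ℕ) (act g) = _; rw [hgx]; rfl⟩
  have hΦ : Function.Injective Φ := (injective_iff_map_eq_one Φ).2 fun x hx => by
    have htop : MonoidHom.eqLocus (x : MulAut E).toMonoidHom (MonoidHom.id E) = ⊤ :=
      eq_top_of_killedBy hsq _ fun q hq z hz =>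
        (congrArg Subtype.val (DFunLike.congr_fun (congrArg Subtype.val (congrFun hx ⟨q, hq⟩))
          (⟨z, hz⟩ : killedBy E q)) :)
    exact Subtype.ext (MulEquiv.ext fun z => (show z ∈ MonoidHom.eqLocus (x : MulAut E).toMonoidHom (MonoidHom.id E)
      from htop ▸ Subgroup.mem_top z))
  refine (KC.of_injective Φ hΦ (KC.pi _ hk)).mono ?_
  rw [Finset.prod_pow_eq_pow_sum]
  refine Nat.pow_le_pow_right (by norm_num) ?_
  have h1 := sum_sub_one_succ_le Finset.univ (fun q : s => (q : ℕ) ^ m q)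
    fun q _ => Nat.one_le_pow _ _ (Nat.prime_of_mem_primeFactors q.2).pos
  have h2 : ∏ q : s, (q : ℕ) ^ m q ≤ r := by
    refine (Nat.pow_le_pow_iff_left (show (2 : ℕ) ≠ 0 by norm_num)).1 (le_trans (le_of_eq ?_) hr)
    rw [← prod_card_killedBy hsq, ← hs, ← Finset.prod_coe_sort s (fun q => Nat.card (killedBy E q)), ← Finset.prod_pow]
    exact Finset.prod_congr rfl fun q _ => by rw [hm q, ← pow_mul, mul_comm]
  omega

end CfsgLib.Coprime.KVSolvable
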