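import Cfsg.Agent.Lib.Coprime.KVSolvable.Aff
import Cfsg.Agent.Lib.Coprime.KVSolvable.Pairing

/-!
# The class number of an affine group whose abelian normal subgroups span fields
-/

set_option autoImplicit false
set_option linter.style.haveILetI false
set_option linter.unusedSectionVars false
set_option maxHeartbeats 3000000

namespace CfsgLib.Coprime.KVSolvable

open Module CfsgLib.Char CfsgLib.Char.Berger CfsgLib.Coprime.ClassMod CfsgLib.Coprime.ClassLower
open scoped commutatorElement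

universe v

theorem succ_mul_sq_le_pow {q : ℕ} (hq : 5 ≤ q) : ∀ e, 2 ≤ e → (q + 1) * e ^ 2 ≤ q ^ e := by
  intro e he
  induction e, he using Nat.le_induction with
  | base => nlinarith
  | succ e he ih =>
    have h1 : (e + 1) ^ 2 ≤ q * e ^ 2 := by nlinarith
    calc (q + 1) * (e + 1) ^ 2 ≤ (q + 1) * (q * e ^ 2) := Nat.mul_le_mul_left _ h1
      _ = q * ((q + 1) * e ^ 2) := by ring
      _ ≤ q * q ^ e := Nat.mul_le_mul_left _ ih
      _ = q ^ (e + 1) := by rw [pow_succ']

theorem le_of_count {k a e N q : ℕ} (ha : 1 ≤ a) (he : 1 ≤ e) (hq : 5 ≤ q) (haq : a < q) (hN : q ^ e ≤ N)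
    (h2 : 2 ≤ e → 2 ≤ a) (h : k * (a * e ^ 2) ≤ (a * e ^ 2) ^ 2 + (N - 1) * e ^ 2) : k ≤ N := by
  have hN1 : 1 ≤ N := (Nat.one_le_pow _ _ (by omega)).trans hN
  obtain ⟨M, rfl⟩ := Nat.exists_eq_add_of_le hN1
  rw [Nat.add_sub_cancel_left] at h
  have h' : k * a ≤ a ^ 2 * e ^ 2 + M := by
    refine Nat.le_of_mul_le_mul_right (h.trans_eq' (by ring) |>.trans_eq ?_) (pow_pos (show 0 < e by omega) 2)
    ring
  refine Nat.le_of_mul_le_mul_right (h'.trans ?_) ha
  rcases eq_or_lt_of_le he with rfl | he2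
  · rw [pow_one] at hN
    obtain ⟨b, rfl⟩ := Nat.exists_eq_add_of_le ha
    nlinarith
  · have hk := succ_mul_sq_le_pow hq e he2
    obtain ⟨b, rfl⟩ := Nat.exists_eq_add_of_le (h2 he2)
    have h3 : (2 + b + 2) * e ^ 2 ≤ 1 + M := (Nat.mul_le_mul_right _ (by omega)).trans (hk.trans hN)
    nlinarith [Nat.mul_le_mul_left (1 + b) h3]

/-- a totally isotropic subgroup -/
theorem card_isotropic_sq_le {M : Type*} [CommGroup M] [Finite M] {A : Type*} [CommGroup A] [Finite A] [IsCyclic A]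
    (β : M →* M →* A) (halt : ∀ m, β m m = 1) (hnd : ∀ m, (∀ n, β m n = 1) → m = 1) (U : Subgroup M)
    (hU : ∀ u ∈ U, ∀ w ∈ U, β u w = 1) : Nat.card U ^ 2 ≤ Nat.card M := by
  haveI : Finite (U →* A) := Finite.of_injective (fun f => (f : U → A)) DFunLike.coe_injective
  let r : M →* (U →* A) := MonoidHom.mk' (fun m => (β m).comp U.subtype) fun a b => by ext; simp
  have h1 : Nat.card U ≤ Nat.card r.ker := Subgroup.card_le_of_le fun u hu => MonoidHom.mem_ker.2
    (MonoidHom.ext fun w => hU u hu w w.2)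
  haveI : Finite (r.range →* A) := Finite.of_injective (fun f => (f : r.range → A)) DFunLike.coe_injective
  let ev : U →* (r.range →* A) := MonoidHom.mk' (fun u => MonoidHom.mk' (fun f => (f : U →* A) u) fun _ _ => rfl)
    fun a b => MonoidHom.ext fun f => map_mul (f : U →* A) a b
  have hev : Function.Injective ev := (injective_iff_map_eq_one ev).2 fun u hu => Subtype.ext (hnd u fun m => by
    have h2 : β m u = 1 := DFunLike.congr_fun hu ⟨r m, m, rfl⟩
    have h3 := halt ((u : M) * m)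
    simpa [map_mul, halt, h2] using h3)
  have h2 : Nat.card U ≤ Nat.card r.range :=
    (Nat.card_le_card_of_injective ev hev).trans (card_monoidHom_le _ _)
  rw [← r.ker.index_mul_card, Subgroup.index_ker, sq]
  exact Nat.mul_le_mul h2 h1

variable {p : ℕ} [Fact p.Prime] {V : Type v} [AddCommGroup V] [Module (ZMod p) V] [Finite V]

/-- **the primitive case** -/
theorem kAff_of_allField [Nontrivial V] (G : Subgroup (V ≃ₗ[ZMod p] V)) (hs : Group.IsSolvable G)
    (hfield : AllField G) (hp5 : 5 ≤ p) : kAff G ≤ 3 ^ (finrank (ZMod p) V - 1) * p ^ finrank (ZMod p) V := by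
  classical
  haveI := hs
  haveI : FiniteDimensional (ZMod p) V := Module.Finite.of_finite
  obtain ⟨A, F, s, e, h⟩ := prim_structure G hs hfield
  haveI := h.normal_A
  haveI := h.normal_F
  haveI := h.cyclic
  haveI : (Subgroup.centralizer (A : Set G)).Normal := Subgroup.normal_centralizer
  set C := Subgroup.centralizer (A : Set G) with hC
  have hFC : F ≤ C := h.F_le
  have hAF := h.le_F
  have hCA : ∀ a ∈ A, ∀ g ∈ C, a * g = g * a := fun a ha g hg => Subgroup.mem_centralizer_iff.1 hg a ha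
  have hnd : ∀ x ∈ F, (∀ y ∈ F, ⁅x, y⁆ = 1) → x ∈ A := by
    intro x hx hx1
    have hZ : F ⊓ Subgroup.centralizer (F : Set G) = A := by
      haveI : (Subgroup.centralizer (F : Set G)).Normal := Subgroup.normal_centralizer
      refine h.maximal _ inferInstance (fun a ha b hb => ?_) (le_inf hAF fun a ha =>
        Subgroup.mem_centralizer_iff.2 fun e he => (hCA a ha e (hFC he)).symm)
      exact (Subgroup.mem_centralizer_iff.1 ha.2 b hb.1).symm
    rw [← hZ]
    exact ⟨hx, Subgroup.mem_centralizer_iff.2 fun y hy =>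
      (commutatorElement_eq_one_iff_mul_comm.1 (hx1 y hy)).symm⟩
  -- the section
  set π := QuotientGroup.mk' A with hπ
  have hπ1 : ∀ g, π g = 1 ↔ g ∈ A := fun g => QuotientGroup.eq_one_iff g
  set M := F.map π with hMdef
  haveI hMn : M.Normal := h.normal_F.map π (QuotientGroup.mk'_surjective A)
  letI : CommGroup M := { (inferInstance : Group M) with
    mul_comm := fun x y => Subtype.ext (by
      obtain ⟨u, hu, hu'⟩ := Subgroup.mem_map.1 x.2
      obtain ⟨w, hw, hw'⟩ := Subgroup.mem_map.1 y.2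
      show (x : G ⧸ A) * y = y * x
      rw [← hu', ← hw', ← commutatorElement_eq_one_iff_mul_comm, ← map_commutatorElement, hπ1]
      exact h.comm_mem u hu w hw) }
  letI : CommGroup A := { (inferInstance : Group A) with
    mul_comm := fun x y => Subtype.ext (h.comm _ x.2 _ y.2) }
  have hlift : ∀ m : M, ∃ u, u ∈ F ∧ π u = m := fun m => Subgroup.mem_map.1 m.2
  choose o hoF hoπ using hlift
  have hdiff : ∀ u w, π u = π w → ∃ a ∈ A, w = u * a := fun u w hh => by
    obtain ⟨a, ha, h'⟩ := (QuotientGroup.mk'_eq_mk' A).1 hh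
    exact ⟨a, ha, h'.symm⟩
  have hwl : ∀ u w y, π u = π w → y ∈ F → ⁅w, y⁆ = ⁅u, y⁆ := fun u w y hh hy => by
    obtain ⟨a, ha, rfl⟩ := hdiff u w hh
    exact commutatorElement_mem_centre_mul_left (hCA a ha y (hFC hy))
  have hwr : ∀ u w x, π u = π w → x ∈ F → ⁅x, w⁆ = ⁅x, u⁆ := fun u w x hh hx => by
    obtain ⟨a, ha, rfl⟩ := hdiff u w hh
    exact commutatorElement_mem_centre_mul_right (hCA a ha x (hFC hx))
  have hmem : ∀ m n : M, ⁅o m, o n⁆ ∈ A := fun m n => h.comm_mem _ (hoF m) _ (hoF n)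
  let β₁ : M → (M →* A) := fun m => MonoidHom.mk' (fun n => (⟨⁅o m, o n⁆, hmem m n⟩ : A)) fun n n' => by
    refine Subtype.ext ?_
    show ⁅o m, o (n * n')⁆ = ⁅o m, o n⁆ * ⁅o m, o n'⁆
    rw [hwr (o n * o n') (o (n * n')) (o m) (by rw [map_mul, hoπ, hoπ, hoπ]; rfl) (hoF m)]
    exact commutatorElement_mul_right_of_central (hCA _ (hmem m n') _ (hFC (hoF n))).symm
  let β : M →* M →* A := MonoidHom.mk' β₁ fun m m' => MonoidHom.ext fun n => Subtype.ext (by
    show ⁅o (m * m'), o n⁆ = ⁅o m, o n⁆ * ⁅o m', o n⁆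
    rw [hwl (o m * o m') (o (m * m')) (o n) (by rw [map_mul, hoπ, hoπ, hoπ]; rfl) (hoF n)]
    exact commutatorElement_mul_left_of_central (hCA _ (hmem m' n) _ (hFC (hoF m))).symm
      (h.comm _ (hmem m n) _ (hmem m' n)))
  have hβ : ∀ u (_ : u ∈ F) w (_ : w ∈ F) (m n : M), π u = m → π w = n → (β m n : G) = ⁅u, w⁆ := by
    intro u hu w hw m n hm hn
    show ⁅o m, o n⁆ = ⁅u, w⁆
    rw [hwl u (o m) (o n) (by rw [hm, hoπ]) (hoF n), hwr w (o n) u (by rw [hn, hoπ]) hu]
  have halt : ∀ m, β m m = 1 := fun m => Subtype.ext (commutatorElement_self _)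
  have hndM : ∀ m, (∀ n, β m n = 1) → m = 1 := fun m hm => by
    have h1 : o m ∈ A := hnd _ (hoF m) fun y hy => by
      rw [← hβ (o m) (hoF m) y hy m ⟨π y, y, hy, rfl⟩ (hoπ m) rfl, hm]
      rfl
    exact Subtype.ext ((hoπ m).symm.trans ((hπ1 _).2 h1))
  let θ : G →* MulAut M := (MulAut.conjNormal : (G ⧸ A) →* MulAut M).comp π
  have hθ : ∀ g m, π (g * o m * g⁻¹) = θ g m := fun g m => by
    rw [map_mul, map_mul, map_inv, hoπ]
    rfl
  have hβθ : ∀ g m n, (β (θ g m) (θ g n) : G) = g * (β m n : G) * g⁻¹ := fun g m n => by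
    rw [hβ _ (h.normal_F.conj_mem _ (hoF m) g) _ (h.normal_F.conj_mem _ (hoF n) g) _ _ (hθ g m) (hθ g n)]
    show ⁅g * o m * g⁻¹, g * o n * g⁻¹⁆ = g * ⁅o m, o n⁆ * g⁻¹
    simp only [commutatorElement_def]; group
  have hiso : ∀ U : Subgroup M, (∀ g, ∀ u ∈ U, θ g u ∈ U) → (∀ u ∈ U, ∀ v ∈ U, β u v = 1) → U = ⊥ := by
    intro U hU hU0
    set P := (U.map M.subtype).comap π with hP
    have hPF : P ≤ F := fun x hx => by
      obtain ⟨u, -, hu⟩ := Subgroup.mem_map.1 (Subgroup.mem_comap.1 hx)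
      obtain ⟨a, ha, rfl⟩ := hdiff (o u) x ((hoπ u).trans hu)
      exact mul_mem (hoF u) (hAF ha)
    haveI : P.Normal := by
      refine ⟨fun x hx g => ?_⟩
      obtain ⟨u, hu, hux⟩ := Subgroup.mem_map.1 (Subgroup.mem_comap.1 hx)
      refine Subgroup.mem_comap.2 ⟨θ g u, hU g u hu, ?_⟩
      rw [map_mul, map_mul, map_inv, ← hux]
      rfl
    have hPA : P = A := by
      refine h.maximal P inferInstance (fun x hx y hy => ?_) fun a ha => Subgroup.mem_comap.2 ?_
      · obtain ⟨u, hu, hux⟩ := Subgroup.mem_map.1 (Subgroup.mem_comap.1 hx)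
        obtain ⟨w, hw, hwy⟩ := Subgroup.mem_map.1 (Subgroup.mem_comap.1 hy)
        refine commutatorElement_eq_one_iff_mul_comm.1 ?_
        rw [← hβ x (hPF hx) y (hPF hy) u w hux.symm hwy.symm, hU0 u hu w hw]
        rfl
      · rw [(hπ1 a).2 ha]; exact one_mem _
    refine (Subgroup.eq_bot_iff_forall U).2 fun u hu => ?_
    have h1 : o u ∈ P := Subgroup.mem_comap.2 ⟨u, hu, (hoπ u).symm⟩
    rw [hPA] at h1
    exact Subtype.ext ((hoπ u).symm.trans ((hπ1 _).2 h1))
  have hsq : ∀ q : ℕ, q.Prime → ∀ x : M, x ^ (q ^ 2) = 1 → x ^ q = 1 := by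
    intro q hq x hx
    refine Subtype.ext ?_
    have h1 : o x ^ (q ^ 2) ∈ A := (hπ1 _).1 (by rw [map_pow, hoπ, ← SubgroupClass.coe_pow, hx]; rfl)
    rw [SubgroupClass.coe_pow, ← hoπ, ← map_pow, (hπ1 _).2 (h.sqfree q hq _ (hoF x) h1)]
    rfl
  have hMcard : Nat.card M = e ^ 2 := by
    rw [← h.relIndex_F, hMdef, ← Subgroup.relIndex_ker, hπ, QuotientGroup.ker_mk']
  -- the classes of the centralizer modulo `F`
  have hK : KC (C.map θ) (3 ^ (e - 1)) := by
    refine kc_map_pairing hsq ?_ β halt hndM θ C ?_ ?_ hiso hMcard.le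
    · intro q hq
      letI := Fintype.ofFinite A
      rw [Nat.card_eq_fintype_card]
      refine le_trans (le_of_eq ?_) (IsCyclic.card_pow_eq_one_le (α := A) hq.pos)
      rw [← Fintype.card_coe]
      exact Fintype.card_congr (Equiv.subtypeEquivRight fun x => by simp [mem_killedBy])
    · intro g hg m n
      refine Subtype.ext ((hβθ g m n).trans ?_)
      rw [← hCA _ (β m n).2 g hg, mul_inv_cancel_right]
    · intro g m n hmn
      refine Subtype.ext ((hβθ g m n).trans ?_)
      rw [hmn, Subgroup.coe_one, mul_one, mul_inv_cancel]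
  set τF := QuotientGroup.mk' F with hτF
  set C' := C.map τF with hC'
  haveI : C'.Normal := Subgroup.Normal.map inferInstance τF (QuotientGroup.mk'_surjective F)
  have hkerle : (θ.subgroupMap C).ker ≤ (τF.subgroupMap C).ker := by
    intro g hg
    have hg1 : θ g = 1 := congrArg Subtype.val (MonoidHom.mem_ker.1 hg)
    refine MonoidHom.mem_ker.2 (Subtype.ext ((QuotientGroup.eq_one_iff (g : G)).2 (h.faithful g g.2 fun x hx => ?_)))
    have h2 := congrArg Subtype.val (DFunLike.congr_fun hg1 (⟨π x, x, hx, rfl⟩ : M))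
    rw [← hπ1, map_commutatorElement, commutatorElement_def, mul_inv_eq_one]
    exact h2
  let ψ := (θ.subgroupMap C).liftOfSurjective (θ.subgroupMap_surjective C) ⟨τF.subgroupMap C, hkerle⟩
  have hψ : Function.Surjective ψ := fun y => by
    obtain ⟨g, rfl⟩ := τF.subgroupMap_surjective C y
    exact ⟨θ.subgroupMap C g, MonoidHom.liftOfRightInverse_comp_apply _ _ _ _ g⟩
  haveI : Finite (C.map θ) := Finite.of_surjective _ (θ.subgroupMap_surjective C)
  have hkC : Nat.card (ConjClasses C') ≤ 3 ^ (e - 1) :=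
    (card_conjClasses_le_of_surjective ψ hψ).trans hK.self
  have hkQ : Nat.card (ConjClasses (G ⧸ F)) ≤ 3 ^ (e - 1) * s := by
    refine (Cfsg.Agent.S4201.result C').trans (Nat.mul_le_mul hkC (card_conjClasses_le_card.trans ?_))
    rw [← Subgroup.index_eq_card, hC', Subgroup.index_map_eq C (QuotientGroup.mk'_surjective F)
      ((QuotientGroup.ker_mk' F).le.trans hFC)]
    exact h.index_le
  -- the fixed points
  set K := spanAlg G.subtype A with hKdef
  have hKf := hfield A h.normal_A h.comm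
  have hfpf : ∀ a ∈ A, ∀ v : V, v ≠ 0 → (a : V ≃ₗ[ZMod p] V) v = v → a = 1 := by
    intro a ha v hv hav
    by_contra hne
    have hne' : (⟨toEndHom G.subtype a, toEndHom_mem_spanAlg G.subtype ha⟩ - 1 : K) ≠ 0 := fun h0 =>
      hne (toEndHom_injective G.subtype_injective ((congrArg Subtype.val (sub_eq_zero.1 h0)).trans (map_one _).symm))
    obtain ⟨w, hw⟩ := hKf.mul_inv_cancel hne'
    rw [hKf.mul_comm] at hw
    have h1 := congrArg (fun z : K => (z : Module.End (ZMod p) V) v) hw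
    simp only [Subalgebra.coe_mul, Module.End.mul_apply, Subalgebra.coe_one, Module.End.one_apply] at h1
    have h0 : ((⟨toEndHom G.subtype a, toEndHom_mem_spanAlg G.subtype ha⟩ - 1 : K) : Module.End (ZMod p) V) v = 0 :=
      sub_eq_zero.2 hav
    rw [h0, map_zero] at h1
    exact hv h1.symm
  have hfix : ∀ v : V, v ≠ 0 → Nat.card {f : F.map G.subtype // (f : V ≃ₗ[ZMod p] V) v = v} ≤ e := by
    intro v hv
    let S : Subgroup G :=
      { carrier := {x | x ∈ F ∧ (x : V ≃ₗ[ZMod p] V) v = v}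
        one_mem' := ⟨one_mem F, rfl⟩
        mul_mem' := fun {a b} ha hb => ⟨mul_mem ha.1 hb.1, by
          rw [Subgroup.coe_mul, LinearEquiv.mul_apply, hb.2, ha.2]⟩
        inv_mem' := fun {a} ha => ⟨inv_mem ha.1, by
          conv_lhs => rw [← ha.2]
          exact LinearEquiv.symm_apply_apply _ v⟩ }
    have hSA : ∀ x ∈ S, x ∈ A → x = 1 := fun x hx hxA => hfpf x hxA v hv hx.2
    set U : Subgroup M := (S.map π).subgroupOf M with hUdef
    have hU : ∀ u ∈ U, ∀ w ∈ U, β u w = 1 := by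
      intro u hu w hw
      obtain ⟨x, hx, hxu⟩ := Subgroup.mem_map.1 (Subgroup.mem_subgroupOf.1 hu)
      obtain ⟨y, hy, hyw⟩ := Subgroup.mem_map.1 (Subgroup.mem_subgroupOf.1 hw)
      refine Subtype.ext ?_
      rw [hβ x hx.1 y hy.1 u w hxu hyw]
      refine hSA _ ?_ (h.comm_mem x hx.1 y hy.1)
      rw [commutatorElement_def]
      exact mul_mem (mul_mem (mul_mem hx hy) (inv_mem hx)) (inv_mem hy)
    have hsq' : Nat.card U ^ 2 ≤ e ^ 2 := (card_isotropic_sq_le β halt hndM U hU).trans_eq hMcard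
    refine le_trans ?_ ((Nat.pow_le_pow_iff_left two_ne_zero).1 hsq')
    have hpre : ∀ f : {f : F.map G.subtype // (f : V ≃ₗ[ZMod p] V) v = v}, ∃ x ∈ S, (x : V ≃ₗ[ZMod p] V) = f.1 :=
      fun f => by
        obtain ⟨x, hx, hxf⟩ := Subgroup.mem_map.1 f.1.2
        exact ⟨x, ⟨hx, by rw [← G.coe_subtype, hxf]; exact f.2⟩, hxf⟩
    choose x hxS hxf using hpre
    refine Nat.card_le_card_of_injective (fun f =>
      (⟨⟨π (x f), x f, (hxS f).1, rfl⟩, Subgroup.mem_subgroupOf.2 ⟨x f, hxS f, rfl⟩⟩ : U)) fun f f' hff' => ?_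
    have h3 : π (x f) = π (x f') := congrArg (fun u : U => ((u : M) : G ⧸ A)) hff'
    obtain ⟨a, ha, hae⟩ := hdiff _ _ h3
    have haS : a ∈ S := by
      rw [show a = (x f)⁻¹ * x f' by rw [hae, inv_mul_cancel_left]]
      exact mul_mem (inv_mem (hxS f)) (hxS f')
    rw [hSA a haS ha, mul_one] at hae
    exact Subtype.ext (Subtype.ext (by rw [← hxf f, ← hxf f', hae]))
  -- the classes of `V ⋊ F`
  have hcardF : Nat.card (F.map G.subtype) = Nat.card A * e ^ 2 := by
    rw [Subgroup.card_map_of_injective G.subtype_injective, ← h.relIndex_F, mul_comm,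
      Subgroup.relIndex, ← Nat.card_congr (Subgroup.subgroupOfEquivOfLe hAF).toEquiv, Subgroup.index_mul_card]
  set n := finrank (ZMod p) V with hn
  have hV : Nat.card V = p ^ n := by rw [Module.natCard_eq_pow_finrank (K := ZMod p), Nat.card_zmod]
  have hp : p.Prime := Fact.out
  have hq1 : 1 < p ^ s := Nat.one_lt_pow (by have := h.one_le_s; omega) hp.one_lt
  have haq : Nat.card A < p ^ s := by
    have := Nat.le_of_dvd (by omega) h.card_dvd
    omega
  have hapn : ¬ p ∣ Nat.card A := fun hd => by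
    have h1 : p ∣ p ^ s - 1 := hd.trans h.card_dvd
    have h2 : p ∣ p ^ s := dvd_pow_self p (by have := h.one_le_s; omega)
    have h3 := Nat.dvd_sub h2 h1
    rw [Nat.sub_sub_self (by omega), Nat.dvd_one] at h3
    exact hp.ne_one h3
  have hcop : (Nat.card (F.map G.subtype)).Coprime (Nat.card V) := by
    rw [hcardF, hV]
    refine Nat.Coprime.pow_right _ (Nat.Coprime.symm (hp.coprime_iff_not_dvd.2 fun hd => ?_))
    rcases hp.dvd_mul.1 hd with h1 | h1
    · exact hapn h1
    · exact hapn (h.prime_dvd p hp (hp.dvd_of_dvd_pow h1))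
  have hkF : kAff (F.map G.subtype) ≤ p ^ n := by
    have hcnt := kAff_mul_card_le (F.map G.subtype) hcop e hfix
    rw [hcardF, hV] at hcnt
    refine le_of_count Nat.card_pos h.one_le_e (le_trans hp5 (Nat.le_self_pow (by have := h.one_le_s; omega) p))
      haq ?_ (fun he => ?_) hcnt
    · rw [← pow_mul]
      exact Nat.pow_le_pow_right hp.pos h.dim
    · obtain ⟨q, hq, hqe⟩ := Nat.exists_prime_and_dvd (show e ≠ 1 by omega)
      exact hq.two_le.trans (Nat.le_of_dvd Nat.card_pos (h.prime_dvd q hq hqe))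
  -- conclusion
  refine (kAff_le_normal G F).trans ?_
  rw [mul_comm (3 ^ (n - 1))]
  refine Nat.mul_le_mul hkF (hkQ.trans ?_)
  have h3 : s ≤ 3 ^ (s - 1) := by
    have := Nat.lt_pow_self (show 1 < 3 by norm_num) (n := s - 1)
    omega
  refine (Nat.mul_le_mul_left _ h3).trans ?_
  rw [← pow_add]
  refine Nat.pow_le_pow_right (by norm_num) ?_
  have := h.dim
  have hs1 := h.one_le_s
  have he1 := h.one_le_e
  obtain ⟨s', rfl⟩ := Nat.exists_eq_add_of_le hs1
  obtain ⟨e', rfl⟩ := Nat.exists_eq_add_of_le he1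
  rw [Nat.add_sub_cancel_left, Nat.add_sub_cancel_left]
  have : (1 + s') * (1 + e') = 1 + s' + e' + s' * e' := by ring
  omega

end CfsgLib.Coprime.KVSolvable
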